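import Groth.Agent.CdOneLim.Theta
import Groth.Prelude.Def_Formal2
import Mathlib.Algebra.Order.Antidiag.Pi
import Mathlib.RingTheory.MvPolynomial.Homogeneous
import Mathlib.RingTheory.Polynomial.Basic

/-!
# Graded division on the powers of `I` in the limit
-/

set_option linter.style.haveILetI false
set_option maxHeartbeats 1000000
set_option backward.isDefEq.respectTransparency false
set_option backward.isDefEq.respectTransparency.types false

universe u

open CategoryTheory CategoryTheory.Limits AlgebraicGeometry TopologicalSpace Opposite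

attribute [local instance] HasDerivedCategory.standard
attribute [local instance] Groth.Agent.QCoh.hasFiniteBiproducts

noncomputable section

namespace Groth.Agent.CdOneLim

open Groth.Agent Groth.Agent.AmpleVan

variable {A : Type u} [CommRing A] {X : Scheme.{u}} [X.Over (Spec (CommRingCat.of A))] {I : Ideal A}
  {G : ℕᵒᵖ ⥤ X.Modules} (hG : Formal.IsCohFormal I G) {r : ℕ} {f : Fin r → A} (hf : ∀ i, f i ∈ I)

lemma smulMod_sum (M : X.Modules) {ι : Type*} (s : Finset ι) (a : ι → A) :
    ∑ j ∈ s, Formal.smulMod A M (a j) = Formal.smulMod A M (∑ j ∈ s, a j) := by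
  classical
  induction s using Finset.induction with
  | empty => simp [FFun.smulMod_zero]
  | insert b s hb ih => rw [Finset.sum_insert hb, Finset.sum_insert hb, FFun.smulMod_add, ih]

include hG hf in
/-- Maps into the limit killed by a power of `I` and zero on one deep enough level vanish. -/
theorem eq_zero_limit_of_killed {k : ℕ}
    (hk : ∀ n, k ≤ n → ∀ {W : X.Modules} (u : W ⟶ (formalTower hG).J n),
      (∀ i, u ≫ ((formalTower hG).sys f hf).t n i = 0) → u = 0)
    {c : ℕ} {W : X.Modules} (s : W ⟶ limit G) (hs : ∀ g ∈ I ^ c, s ≫ Formal.smulMod A (limit G) g = 0)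
    (h0 : s ≫ limit.π G (op k) = 0) : s = 0 := by
  refine limit.hom_ext fun ⟨m⟩ => ?_
  rw [zero_comp]
  have hπ : ∀ {a b : ℕ} (h : a ≤ b), limit.π G (op b) ≫ ARSys.tr G h = limit.π G (op a) := fun h => limit.w G _
  have h1 := tr_eq_zero_of_killed hG hf hk c (m + k + c) W (s ≫ limit.π G (op (m + k + c)))
    (fun g hg => by rw [Category.assoc, ← FFun.smulMod_naturality, ← Category.assoc, hs g hg, zero_comp])
    (by omega) (by rw [Category.assoc, hπ, h0]) (m + k) (by omega) le_rfl
  rw [Category.assoc, hπ] at h1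
  rw [← hπ (Nat.le_add_right m k), ← Category.assoc, h1, zero_comp]

section Graded

variable {c' : ℕ} (Φ : ℕ → A → MvPolynomial (Fin r) A)
  (hadd : ∀ n : ℕ, ∀ g ∈ I ^ (n * c'), ∀ h ∈ I ^ (n * c'), Φ n (g + h) = Φ n g + Φ n h)
  (hsmul : ∀ (n : ℕ) (a : A), ∀ g ∈ I ^ (n * c'), Φ n (a * g) = a • Φ n g)
  (hmul : ∀ n m : ℕ, ∀ g ∈ I ^ (n * c'), ∀ h ∈ I ^ (m * c'), Φ (n + m) (g * h) = Φ n g * Φ m h)
  (h0 : ∀ a : A, Φ 0 a = MvPolynomial.C a)

include hadd hmul in
/-- A property of the values in each positive degree follows from degree one. -/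
theorem graded_induction (P : ℕ → A → MvPolynomial (Fin r) A → Prop)
    (hPa : ∀ n g h p q, P n g p → P n h q → P n (g + h) (p + q))
    (hPm : ∀ n g h p q, P n g p → P 1 h q → P (n + 1) (g * h) (p * q))
    (h1 : ∀ g ∈ I ^ c', P 1 g (Φ 1 g)) :
    ∀ n : ℕ, 1 ≤ n → ∀ g ∈ I ^ (n * c'), P n g (Φ n g) := by
  intro n hn
  induction n, hn using Nat.le_induction with
  | base => exact fun g hg => h1 g (by rwa [one_mul] at hg)
  | succ n hn ih =>
    intro g hg
    rw [show (n + 1) * c' = n * c' + c' by ring, pow_add] at hg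
    have hle : I ^ (n * c') * I ^ c' ≤ I ^ ((n + 1) * c') := by
      rw [← pow_add, show (n + 1) * c' = n * c' + c' by ring]
    induction hg using Submodule.mul_induction_on' with
    | mem_mul_mem a ha b hb =>
      rw [hmul n 1 a ha b (by rwa [one_mul])]
      exact hPm n a b _ _ (ih a ha) (h1 b hb)
    | add x hx y hy ihx ihy =>
      rw [hadd (n + 1) x (hle hx) y (hle hy)]
      exact hPa _ _ _ _ _ ihx ihy

include hsmul in
lemma coeff_comm (n : ℕ) {g g' : A} (hg : g ∈ I ^ (n * c')) (hg' : g' ∈ I ^ (n * c')) (d : Fin r →₀ ℕ) :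
    g' * MvPolynomial.coeff d (Φ n g) = g * MvPolynomial.coeff d (Φ n g') := by
  rw [← smul_eq_mul, ← smul_eq_mul, ← MvPolynomial.coeff_smul, ← MvPolynomial.coeff_smul,
    ← hsmul n g' g hg, ← hsmul n g g' hg', mul_comm]

/-- The values on `I^(nc')` in the summands. -/
abbrev coeffMap (n : ℕ) : (∐ fun _ : ↥(I ^ (n * c')) => limit G) ⟶
    ⨁ fun _ : ↥(Finset.Nat.antidiagonalTuple r n) => limit G :=
  Limits.Sigma.desc fun g => biproduct.lift fun e =>
    Formal.smulMod A (limit G) (MvPolynomial.coeff (Finsupp.equivFunOnFinite.symm e.1) (Φ n g.1))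

include hG hf hsmul in
/-- The map on `I^(nc') F`. -/
theorem exists_desc {k : ℕ}
    (hk : ∀ n, k ≤ n → ∀ {W : X.Modules} (u : W ⟶ (formalTower hG).J n),
      (∀ i, u ≫ ((formalTower hG).sys f hf).t n i = 0) → u = 0)
    (n : ℕ) (hdeep : n = 0 ∨ ∀ g ∈ I ^ (n * c'), ∀ d, MvPolynomial.coeff d (Φ n g) ∈ I ^ (k + 1)) (hn0 : n = 0 → ∀ a, Φ 0 a = MvPolynomial.C a) :
    ∃ (ρ : (∐ fun _ : ↥(I ^ (n * c')) => limit G) ⟶ Formal2.idealPowMod I (n * c') (limit G))
      (q : Formal2.idealPowMod I (n * c') (limit G) ⟶ ⨁ fun _ : ↥(Finset.Nat.antidiagonalTuple r n) => limit G),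
      Epi ρ ∧ ρ ≫ Formal2.idealPowModι I (n * c') (limit G) = Formal.smulFamily (I ^ (n * c')) (limit G) ∧
        ρ ≫ q = coeffMap Φ n := by
  let S := ShortComplex.mk (Formal.smulFamily (I ^ (n * c')) (limit G)) (Formal.modPowπ I (n * c') (limit G))
    (cokernel.condition _)
  have hS : S.Exact := ShortComplex.exact_of_g_is_cokernel S (cokernelIsCokernel _)
  let ρ : (∐ fun _ : ↥(I ^ (n * c')) => limit G) ⟶ Formal2.idealPowMod I (n * c') (limit G) :=
    kernel.lift S.g S.f S.zero
  haveI hρ : Epi ρ := hS.epi_kernelLift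
  have hρι : ρ ≫ Formal2.idealPowModι I (n * c') (limit G) = Formal.smulFamily (I ^ (n * c')) (limit G) :=
    kernel.lift_ι _ _ _
  have hker : kernel.ι ρ ≫ coeffMap Φ n = 0 := by
    have h1 : kernel.ι ρ ≫ Formal.smulFamily (I ^ (n * c')) (limit G) = 0 := by
      rw [← hρι, kernel.condition_assoc, zero_comp]
    refine biproduct.hom_ext _ _ fun e => ?_
    rw [zero_comp, Category.assoc]
    let d : Fin r →₀ ℕ := Finsupp.equivFunOnFinite.symm e.1
    have hΔ : coeffMap Φ n ≫ biproduct.π _ e =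
        Limits.Sigma.desc fun g : ↥(I ^ (n * c')) => Formal.smulMod A (limit G) (MvPolynomial.coeff d (Φ n g.1)) :=
      Limits.Sigma.hom_ext _ _ fun g => by simp [coeffMap, d]
    rw [hΔ]
    have h2 : ∀ g' ∈ I ^ (n * c'), (kernel.ι ρ ≫ Limits.Sigma.desc fun g : ↥(I ^ (n * c')) =>
        Formal.smulMod A (limit G) (MvPolynomial.coeff d (Φ n g.1))) ≫ Formal.smulMod A (limit G) g' = 0 := by
      intro g' hg'
      have e1 : (Limits.Sigma.desc fun g : ↥(I ^ (n * c')) => Formal.smulMod A (limit G) (MvPolynomial.coeff d (Φ n g.1))) ≫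
          Formal.smulMod A (limit G) g' =
          Formal.smulFamily (I ^ (n * c')) (limit G) ≫ Formal.smulMod A (limit G) (MvPolynomial.coeff d (Φ n g')) := by
        refine Limits.Sigma.hom_ext _ _ fun g => ?_
        simp only [Formal.smulFamily, Sigma.ι_desc_assoc, ← FFun.smulMod_mul]
        refine congrArg _ ?_
        rw [coeff_comm Φ hsmul n g.2 hg' d, mul_comm]
      rw [Category.assoc, e1, ← Category.assoc, h1, zero_comp]
    rcases hdeep with rfl | hdeep
    · have h3 := h2 1 (by rw [Nat.zero_mul, pow_zero, Ideal.one_eq_top]; trivial)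
      rwa [FFun.smulMod_one, Category.comp_id] at h3
    · refine eq_zero_limit_of_killed hG hf hk _ h2 ?_
      rw [Category.assoc]
      refine (congrArg (kernel.ι ρ ≫ ·) (Limits.Sigma.hom_ext _ _ fun g => ?_)).trans comp_zero
      rw [Sigma.ι_desc_assoc, comp_zero, FFun.smulMod_naturality, hG.2.1 k _ (hdeep g.1 g.2 d), comp_zero]
  let T := ShortComplex.mk (kernel.ι ρ) ρ (kernel.condition _)
  have hT : T.Exact := ShortComplex.exact_of_f_is_kernel T (kernelIsKernel _)
  exact ⟨ρ, hT.desc _ hker, hρ, hρι, hT.g_desc _ _⟩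

end Graded

end Groth.Agent.CdOneLim
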