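import Groth.Agent.CdOneLim.Theta
import Groth.Agent.LefAlgz.GrGeom

/-!
# The limit topology is adic for cohomological dimension one
-/

set_option linter.style.haveILetI false
set_option maxHeartbeats 1000000
set_option backward.isDefEq.respectTransparency false
set_option backward.isDefEq.respectTransparency.types false

universe u

open CategoryTheory CategoryTheory.Limits AlgebraicGeometry TopologicalSpace Opposite
open Groth.Agent.PnCoh.Finite (mapLin deltaLin exists_of_deltaLin_eq_zero)

attribute [local instance] HasDerivedCategory.standard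
attribute [local instance] Groth.Agent.QCoh.hasFiniteBiproducts

noncomputable section

namespace Groth.Agent.CdOneLim

open Groth.Agent Groth.Agent.AmpleVan

variable {A : Type u} [CommRing A] {X : Scheme.{u}} [X.Over (Spec (CommRingCat.of A))] {I : Ideal A}
  {G : ℕᵒᵖ ⥤ X.Modules} (hG : Formal.IsCohFormal I G)

omit G in
lemma mapLin_smulMod_comp {M N : X.Modules} (φ : M ⟶ N) (a : A) (p : ℕ) (x : Coh.HH X M p) :
    mapLin A (φ ≫ Formal.smulMod A N a) p x = a • mapLin A φ p x := by
  rw [← FFun.mapLin_comp]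
  exact FFun.mapLin_smulMod A N a p _

omit G in
lemma mapLin_sum {M N : X.Modules} {ι : Type*} (s : Finset ι) (φ : ι → (M ⟶ N)) (p : ℕ) (x : Coh.HH X M p) :
    mapLin A (∑ j ∈ s, φ j) p x = ∑ j ∈ s, mapLin A (φ j) p x := by
  classical
  induction s using Finset.induction with
  | empty => simp only [Finset.sum_empty]; exact LefAlgz.GrGeom.mapLin_zero p x
  | insert b s hb ih => rw [Finset.sum_insert hb, Finset.sum_insert hb, LefAlgz.GrGeom.mapLin_add, ih]

variable (G) in
/-- The sequences of the deep parts. -/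
abbrev deepSC (B N : ℕ) : ShortComplex X.Modules :=
  ShortComplex.mk (kernel.ι (ARSys.tr G (Nat.le_add_right B N))) (ARSys.tr G (Nat.le_add_right B N)) (kernel.condition _)

include hG in
lemma deepSC_shortExact (B N : ℕ) : (deepSC G B N).ShortExact := by
  haveI := Algz7.epi_tr hG (Nat.le_add_right B N)
  exact .mk' (ShortComplex.exact_of_f_is_kernel _ (kernelIsKernel _)) inferInstance inferInstance

section Top

variable {Y : TopCat.{u}} {T T' : ShortComplex (CohTop.Ab Y)}

omit G in
theorem exists_lift_ker (hT : T.ShortExact) (hT' : T'.ShortExact) (φ : T' ⟶ T) [IsIso φ.τ₃] :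
    ∀ (p : ℕ) (d : CohTop.H T.X₁ p), Sheaf.H.map T.f p d = 0 →
      ∃ e : CohTop.H T'.X₁ p, Sheaf.H.map T'.f p e = 0 ∧ Sheaf.H.map φ.τ₁ p e = d := by
  intro p d hd
  cases p with
  | zero =>
    refine ⟨0, map_zero _, ?_⟩
    rw [map_zero]
    obtain ⟨d', rfl⟩ := (Abelian.Ext.mk₀_bijective _ _).2 d
    have h1 : Abelian.Ext.mk₀ (d' ≫ T.f) = 0 := (Abelian.Ext.mk₀_comp_mk₀ _ _).symm.trans hd
    have h2 : d' ≫ T.f = 0 := (Abelian.Ext.mk₀_bijective _ _).1 (h1.trans (Abelian.Ext.mk₀_zero ..).symm)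
    haveI := hT.mono_f
    rw [(cancel_mono T.f).1 (h2.trans zero_comp.symm), Abelian.Ext.mk₀_zero]
  | succ p =>
    obtain ⟨g, rfl⟩ : ∃ g, QCoh.Ab.connecting hT p g = d := Abelian.Ext.covariant_sequence_exact₁ _ hT d hd rfl
    let g' := Sheaf.H.map (inv φ.τ₃) p g
    refine ⟨QCoh.Ab.connecting hT' p g', ?_, ?_⟩
    · show (g'.comp hT'.extClass rfl).comp (Abelian.Ext.mk₀ T'.f) (add_zero _) = 0
      rw [Abelian.Ext.comp_assoc_of_third_deg_zero, ShortComplex.ShortExact.extClass_comp, Abelian.Ext.comp_zero]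
    · rw [QCoh.Ab.connecting_naturality hT' hT φ p g', ← Sheaf.H.map_comp_apply, IsIso.inv_hom_id,
        Sheaf.H.map_id_apply]

end Top

include hG in
/-- Corrections can be chosen compatibly. -/
theorem exists_correction (p B N : ℕ) (d : Coh.HH X (deep G B N) p)
    (hd : mapLin A (kernel.ι (ARSys.tr G (Nat.le_add_right B N))) p d = 0) :
    ∃ e : Coh.HH X (deep G B (N + 1)) p,
      mapLin A (kernel.ι (ARSys.tr G (Nat.le_add_right B (N + 1)))) p e = 0 ∧ mapLin A (deepMap G B N) p e = d := by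
  let α : deepSC G B (N + 1) ⟶ deepSC G B N :=
    { τ₁ := deepMap G B N
      τ₂ := ARSys.tr G (show B + N ≤ B + (N + 1) by omega)
      τ₃ := 𝟙 _
      comm₁₂ := deepMap_ι B N
      comm₂₃ := (tr_comp _ _).trans (Category.comp_id _).symm }
  haveI : IsIso α.τ₃ := inferInstanceAs (IsIso (𝟙 _))
  haveI : IsIso ((QCoh.toAbFunctor X).mapShortComplex.map α).τ₃ :=
    inferInstanceAs (IsIso ((QCoh.toAbFunctor X).map α.τ₃))
  exact exists_lift_ker (Y := X.toPresheafedSpace.carrier) (QCoh.toAb_shortExact (deepSC_shortExact hG B N))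
    (QCoh.toAb_shortExact (deepSC_shortExact hG B (N + 1))) ((QCoh.toAbFunctor X).mapShortComplex.map α) p d hd

include hG in
/-- Compatible classes on the deep parts. -/
theorem exists_deep_classes (p B : ℕ) (x : ∀ n, Coh.HH X (G.obj (op n)) p)
    (hx : ∀ n, mapLin A (ARSys.tr G (Nat.le_succ n)) p (x (n + 1)) = x n) (hB : x B = 0) :
    ∃ w : ∀ N, Coh.HH X (deep G B N) p,
      (∀ N, mapLin A (kernel.ι (ARSys.tr G (Nat.le_add_right B N))) p (w N) = x (B + N)) ∧
        ∀ N, mapLin A (deepMap G B N) p (w (N + 1)) = w N := by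
  have htr : ∀ {a b : ℕ} (h : a ≤ b), mapLin A (ARSys.tr G h) p (x b) = x a := fun {a b} h => by
    induction b, h using Nat.le_induction with
    | base =>
      rw [FFun.mapLin_congr (A := A) (Algz7.tr_refl G a) p]
      exact LefAlgz.GrGeom.mapLin_id' _ p _
    | succ b h ih =>
      rw [← FFun.mapLin_congr (A := A) (tr_comp h (Nat.le_succ b)) p, ← FFun.mapLin_comp, hx]
      exact ih
  have hex : ∀ N, ∃ w, mapLin A (kernel.ι (ARSys.tr G (Nat.le_add_right B N))) p w = x (B + N) := fun N =>
    LefAlgz.GrGeom.exists_of_mapLin_eq_zero (deepSC_shortExact hG B N) p (x (B + N)) ((htr _).trans hB)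
  choose w₀ hw₀ using hex
  have hstep : ∀ N (w : Coh.HH X (deep G B N) p),
      mapLin A (kernel.ι (ARSys.tr G (Nat.le_add_right B N))) p w = x (B + N) →
      ∃ w', mapLin A (kernel.ι (ARSys.tr G (Nat.le_add_right B (N + 1)))) p w' = x (B + (N + 1)) ∧
        mapLin A (deepMap G B N) p w' = w := by
    intro N w hw
    obtain ⟨e, he1, he2⟩ := exists_correction hG p B N (w - mapLin A (deepMap G B N) p (w₀ (N + 1))) (by
      rw [map_sub, hw, FFun.mapLin_comp, FFun.mapLin_congr (A := A) (deepMap_ι B N) p, ← FFun.mapLin_comp, hw₀,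
        sub_eq_zero]
      exact (htr _).symm)
    exact ⟨w₀ (N + 1) + e, by rw [map_add, hw₀, he1, add_zero], by rw [map_add, he2, add_sub_cancel]⟩
  choose next hn1 hn2 using hstep
  let g : ∀ N, {w : Coh.HH X (deep G B N) p //
      mapLin A (kernel.ι (ARSys.tr G (Nat.le_add_right B N))) p w = x (B + N)} := fun N =>
    Nat.rec ⟨w₀ 0, hw₀ 0⟩ (fun N w => ⟨next N w.1 w.2, hn1 N w.1 w.2⟩) N
  exact ⟨fun N => (g N).1, fun N => (g N).2, fun N => hn2 N (g N).1 (g N).2⟩

variable (A G) in
/-- The compatible families. -/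
def comp (p : ℕ) : Submodule A (∀ n, Coh.HH X (G.obj (op n)) p) where
  carrier := {x | ∀ n, mapLin A (ARSys.tr G (Nat.le_succ n)) p (x (n + 1)) = x n}
  add_mem' {x y} hx hy n := by simp only [Pi.add_apply, map_add, hx n, hy n]
  zero_mem' n := map_zero _
  smul_mem' a x hx n := by simp only [Pi.smul_apply, map_smul, hx n]

include hG in
/-- The limit topology is the adic one. -/
theorem mem_pow_smul [IsNoetherianRing A] [IsNoetherian X] {r : ℕ} (f : Fin r → A)
    (hI : Ideal.span (Set.range f) = I) {c : ℕ} (φ : Fin r → (↥(I ^ c) →ₗ[A] A))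
    (hfid : ∀ x : ↥(I ^ c), (x : A) = ∑ j, f j * φ j x) (p : ℕ) :
    ∀ m : ℕ, ∃ e : ℕ, ∀ x ∈ comp A G p, x e = 0 → x ∈ I ^ m • comp A G p := by
  have hf : ∀ i, f i ∈ I := fun i => hI ▸ Ideal.subset_span ⟨i, rfl⟩
  obtain ⟨k, hk⟩ := exists_socle_zero hG hf hI
  intro m
  induction m with
  | zero =>
    exact ⟨0, fun x hx _ => by rw [pow_zero, Ideal.one_eq_top, Submodule.top_smul]; exact hx⟩
  | succ m ih =>
    obtain ⟨e, he⟩ := ih
    let D := k + e
    let B := D + c
    obtain ⟨θ, hθ1, hθ2, hθ3⟩ := exists_theta hG hf φ hfid hk (D := D) (B := B) (Nat.le_add_right k e) rfl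
    refine ⟨B, fun x hx hxB => ?_⟩
    obtain ⟨w, hw1, hw2⟩ := exists_deep_classes hG p B x hx hxB
    let y : Fin r → ∀ n, Coh.HH X (G.obj (op n)) p := fun j n =>
      mapLin A (ARSys.tr G (Nat.le_add_left n D)) p (mapLin A (θ j n) p (w n))
    have hy : ∀ j, y j ∈ comp A G p := fun j n => by
      show mapLin A (ARSys.tr G (Nat.le_succ n)) p (mapLin A (ARSys.tr G (Nat.le_add_left (n + 1) D)) p
        (mapLin A (θ j (n + 1)) p (w (n + 1)))) = mapLin A (ARSys.tr G (Nat.le_add_left n D)) p (mapLin A (θ j n) p (w n))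
      rw [← hw2 n]
      simp only [FFun.mapLin_comp]
      refine FFun.mapLin_congr (A := A) ?_ p _
      rw [← hθ2 j n, Category.assoc, Category.assoc, tr_comp, tr_comp]
    have hyD : ∀ j, y j D = 0 := fun j => by
      show mapLin A _ p (mapLin A (θ j D) p (w D)) = 0
      rw [FFun.mapLin_comp]
      exact (FFun.mapLin_congr (A := A) (hθ3 j D) p _).trans (LefAlgz.GrGeom.mapLin_zero p _)
    have hye : ∀ j, y j ∈ I ^ m • comp A G p := fun j => by
      refine he _ (hy j) ?_
      have key : ∀ {a b : ℕ} (h : a ≤ b), mapLin A (ARSys.tr G h) p (y j b) = y j a := fun {a b} h => by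
        induction b, h using Nat.le_induction with
        | base =>
          rw [FFun.mapLin_congr (A := A) (Algz7.tr_refl G a) p]
          exact LefAlgz.GrGeom.mapLin_id' _ p _
        | succ b h ih =>
          rw [← FFun.mapLin_congr (A := A) (tr_comp h (Nat.le_succ b)) p, ← FFun.mapLin_comp, hy j b]
          exact ih
      rw [← key (Nat.le_add_left e k : e ≤ D), hyD, map_zero]
    have hxy : x = ∑ j, f j • y j := by
      funext n
      simp only [Finset.sum_apply, Pi.smul_apply, y, FFun.mapLin_comp, ← mapLin_smulMod_comp]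
      rw [← mapLin_sum]
      have h1 : ∑ j, (θ j n ≫ ARSys.tr G (Nat.le_add_left n D)) ≫ Formal.smulMod A (G.obj (op n)) (f j) =
          kernel.ι (ARSys.tr G (Nat.le_add_right B n)) ≫ ARSys.tr G (Nat.le_add_left n B) := by
        simp only [Category.assoc, ← smul_comm_tr]
        simp only [← Category.assoc]
        rw [← Preadditive.sum_comp, hθ1 n, Category.assoc, tr_comp]
      rw [FFun.mapLin_congr (A := A) h1 p, ← FFun.mapLin_comp, hw1]
      have key : ∀ {a b : ℕ} (h : a ≤ b), mapLin A (ARSys.tr G h) p (x b) = x a := fun {a b} h => by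
        induction b, h using Nat.le_induction with
        | base =>
          rw [FFun.mapLin_congr (A := A) (Algz7.tr_refl G a) p]
          exact LefAlgz.GrGeom.mapLin_id' _ p _
        | succ b h ih =>
          rw [← FFun.mapLin_congr (A := A) (tr_comp h (Nat.le_succ b)) p, ← FFun.mapLin_comp, hx b]
          exact ih
      exact (key _).symm
    rw [hxy, pow_succ', Submodule.mul_smul]
    exact Submodule.sum_mem _ fun j _ => Submodule.smul_mem_smul (hf j) (hye j)

/-- Elements of `J • L` as finite sums. -/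
theorem exists_sum_of_mem_smul {M : Type u} [AddCommGroup M] [Module A M] {J : Ideal A} {L : Submodule A M} {x : M}
    (hx : x ∈ J • L) : ∃ (k : ℕ) (a : Fin k → A) (y : Fin k → M), (∀ i, a i ∈ J ∧ y i ∈ L) ∧ x = ∑ i, a i • y i := by
  refine Submodule.smul_induction_on hx (fun a ha y hy => ⟨1, fun _ => a, fun _ => y, fun _ => ⟨ha, hy⟩, by simp⟩) ?_
  rintro _ _ ⟨k, a, y, h, rfl⟩ ⟨k', a', y', h', rfl⟩
  refine ⟨k + k', Fin.append a a', Fin.append y y', fun i => ?_, ?_⟩
  · induction i using Fin.addCases with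
    | left i => simp only [Fin.append_left]; exact h i
    | right i => simp only [Fin.append_right]; exact h' i
  · simp only [Fin.sum_univ_add, Fin.append_left, Fin.append_right]

end Groth.Agent.CdOneLim
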