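import Groth.Agent.AmpleVan.FormalTower
import Groth.Agent.S0825

/-!
# Division by generators on the deep parts of a coherent formal module
-/

set_option linter.style.haveILetI false
set_option maxHeartbeats 1000000
set_option backward.isDefEq.respectTransparency false
set_option backward.isDefEq.respectTransparency.types false

universe u

open CategoryTheory CategoryTheory.Limits AlgebraicGeometry TopologicalSpace Opposite

attribute [local instance] HasDerivedCategory.standard
attribute [local instance] Groth.Agent.QCoh.hasFiniteBiproducts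

noncomputable section

namespace Groth.Agent.CdOneLim

open Groth.Agent Groth.Agent.AmpleVan

variable {A : Type u} [CommRing A] {X : Scheme.{u}} [X.Over (Spec (CommRingCat.of A))] {I : Ideal A}
  {G : ℕᵒᵖ ⥤ X.Modules} (hG : Formal.IsCohFormal I G) {r : ℕ} {f : Fin r → A} (hf : ∀ i, f i ∈ I)

lemma tr_comp {a b c : ℕ} (h₁ : a ≤ b) (h₂ : b ≤ c) :
    ARSys.tr G h₂ ≫ ARSys.tr G h₁ = ARSys.tr G (h₁.trans h₂) := Algz7.tr_trans G h₁ h₂

lemma smul_comm_tr {a b : ℕ} (h : a ≤ b) (g : A) :
    Formal.smulMod A (G.obj (op b)) g ≫ ARSys.tr G h = ARSys.tr G h ≫ Formal.smulMod A (G.obj (op a)) g :=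
  FFun.smulMod_naturality _ g

/-- The socle of a graded piece. -/
abbrev soc (n : ℕ) : X.Modules :=
  kernel (biproduct.lift fun i : ULift.{u} (Fin r) => ((formalTower hG).sys f hf).t n i.down)

/-- The socle as a system with zero operators. -/
def socSys : FFun.Gen.Sys X r where
  G n := soc hG hf n
  t _ _ := 0
  comm _ _ _ := by simp

include hG hf in
/-- In large degrees the operators detect zero. -/
theorem exists_socle_zero [IsNoetherian X] (hspan : Ideal.span (Set.range f) = I) :
    ∃ k : ℕ, ∀ n, k ≤ n → ∀ {W : X.Modules} (u : W ⟶ (formalTower hG).J n),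
      (∀ i, u ≫ ((formalTower hG).sys f hf).t n i = 0) → u = 0 := by
  have hJ : ∀ n, Coh.IsCoh ((formalTower hG).J n) := (formalTower hG).isCoh_J
  have hcoh : ∀ n, Coh.IsCoh ((socSys hG hf).G n) := fun n =>
    QCoh.isCoh_kernel (hJ n) (QCoh.isCoh_biproduct _ fun _ => hJ (n + 1)) _
  have hι : ∀ n i, (socSys hG hf).t n i ≫ kernel.ι (biproduct.lift fun j : ULift.{u} (Fin r) =>
      ((formalTower hG).sys f hf).t (n + 1) j.down) =
      kernel.ι (biproduct.lift fun j : ULift.{u} (Fin r) => ((formalTower hG).sys f hf).t n j.down) ≫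
        ((formalTower hG).sys f hf).t n i := fun n i => by
    have h := congrArg (· ≫ biproduct.π (fun _ : ULift.{u} (Fin r) => (formalTower hG).J (n + 1)) ⟨i⟩)
      (kernel.condition (biproduct.lift fun j : ULift.{u} (Fin r) => ((formalTower hG).sys f hf).t n j.down))
    exact zero_comp.trans ((((congrArg (kernel.ι _ ≫ ·) (biproduct.lift_π
      (fun j : ULift.{u} (Fin r) => ((formalTower hG).sys f hf).t n j.down) ⟨i⟩)).symm.trans
        (Category.assoc _ _ _).symm).trans (h.trans zero_comp)).symm)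
  haveI : ∀ n, Mono ((fun n => kernel.ι (biproduct.lift fun j : ULift.{u} (Fin r) =>
      ((formalTower hG).sys f hf).t n j.down)) n) := fun n => equalizer.ι_mono
  obtain ⟨d, hd⟩ := exists_genFrom_of_mono ((formalTower hG).sys f hf) (socSys hG hf) hJ hcoh
    (genFrom_formalTower hG f hf hspan) (fun n => kernel.ι _) hι
  refine ⟨d + 1, fun n hn W u hu => ?_⟩
  obtain ⟨m, rfl⟩ : ∃ m, n = m + 1 := ⟨n - 1, by omega⟩
  have hepi := hd m (by omega)
  have h0 : (socSys hG hf).tAll m = 0 := biproduct.hom_ext' _ _ fun i => by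
    rw [biproduct.ι_desc, comp_zero]
    rfl
  rw [h0] at hepi
  have hid : 𝟙 (soc hG hf (m + 1)) = 0 := hepi.left_cancellation _ _ (zero_comp.trans zero_comp.symm)
  let ℓ := kernel.lift (biproduct.lift fun i : ULift.{u} (Fin r) => ((formalTower hG).sys f hf).t (m + 1) i.down) u
    (biproduct.hom_ext _ _ fun i => by rw [Category.assoc, biproduct.lift_π, zero_comp]; exact hu i.down)
  have hℓ : ℓ = 0 := by rw [← Category.comp_id ℓ, hid, comp_zero]
  rw [← kernel.lift_ι (biproduct.lift fun i : ULift.{u} (Fin r) => ((formalTower hG).sys f hf).t (m + 1) i.down) u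
    (biproduct.hom_ext _ _ fun i => by rw [Category.assoc, biproduct.lift_π, zero_comp]; exact hu i.down)]
  exact (congrArg (· ≫ kernel.ι _) hℓ).trans zero_comp

include hG hf in
/-- Deep maps killed by `I^c` die a bounded number of steps earlier. -/
theorem tr_eq_zero_of_killed {k : ℕ}
    (hk : ∀ n, k ≤ n → ∀ {W : X.Modules} (u : W ⟶ (formalTower hG).J n),
      (∀ i, u ≫ ((formalTower hG).sys f hf).t n i = 0) → u = 0) :
    ∀ (c n : ℕ) (W : X.Modules) (s : W ⟶ G.obj (op n)),
      (∀ g ∈ I ^ c, s ≫ Formal.smulMod A (G.obj (op n)) g = 0) →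
      ∀ (hkn : k ≤ n), s ≫ ARSys.tr G hkn = 0 →
      ∀ q, k ≤ q → ∀ (hq : q + c ≤ n), s ≫ ARSys.tr G (le_of_add_le_left hq) = 0 := by
  intro c
  induction c with
  | zero =>
    intro n W s hs hkn _ q _ hq
    have h1 := hs 1 (by rw [pow_zero, Ideal.one_eq_top]; trivial)
    rw [FFun.smulMod_one, Category.comp_id] at h1
    rw [h1, zero_comp]
  | succ c ih =>
    intro n W s hs hkn hsk q hkq
    induction q, hkq using Nat.le_induction with
    | base => exact fun _ => hsk
    | succ q hkq ihq =>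
      intro hq
      have hq1 : q + 1 ≤ n := by omega
      have hq2 : q + 2 ≤ n := by omega
      let T := formalTower hG
      have h0 : (s ≫ ARSys.tr G hq1) ≫ T.t q = 0 := by
        rw [Category.assoc]
        refine (congrArg (s ≫ ·) (tr_comp (Nat.le_succ q) hq1)).trans ?_
        exact ihq (by omega)
      let u : W ⟶ T.J (q + 1) := kernel.lift (T.t q) (s ≫ ARSys.tr G hq1) h0
      have hu : u = 0 := hk (q + 1) (by omega) u fun i => by
        rw [← cancel_mono (kernel.ι (T.t (q + 1))), zero_comp, Category.assoc]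
        refine (congrArg (u ≫ ·) (kernel.lift_ι (T.t (q + 1)) _ _)).trans ?_
        rw [← Category.assoc]
        refine (congrArg (· ≫ T.up (q + 1) (f i) (hf i)) (kernel.lift_ι (T.t q) _ _)).trans ?_
        rw [Category.assoc, ← tr_comp (G := G) (Nat.le_succ (q + 1)) hq2, Category.assoc]
        refine (congrArg (fun z => s ≫ ARSys.tr G hq2 ≫ z) (T.t_up (q + 1) (f i) (hf i))).trans ?_
        refine (congrArg (s ≫ ·) (smul_comm_tr hq2 (f i)).symm).trans ?_
        rw [← Category.assoc]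
        refine ih n W (s ≫ Formal.smulMod A (G.obj (op n)) (f i)) (fun g hg => ?_) hkn ?_ (q + 2) (by omega) (by omega)
        · rw [Category.assoc, ← FFun.smulMod_mul]
          exact hs _ (by rw [pow_succ]; exact Ideal.mul_mem_mul hg (hf i))
        · rw [Category.assoc, smul_comm_tr, ← Category.assoc, hsk, zero_comp]
      refine (kernel.lift_ι (T.t q) (s ≫ ARSys.tr G hq1) h0).symm.trans ?_
      exact (congrArg (· ≫ kernel.ι (T.t q)) hu).trans zero_comp

section Div

variable {c : ℕ} (φ : Fin r → (↥(I ^ c) →ₗ[A] A))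

open Classical in
/-- The linear forms as functions. -/
def ψ (j : Fin r) (g : A) : A := if h : g ∈ I ^ c then φ j ⟨g, h⟩ else 0

lemma ψ_eq (j : Fin r) {g : A} (h : g ∈ I ^ c) : ψ φ j g = φ j ⟨g, h⟩ := dif_pos h

lemma ψ_mul (j : Fin r) {g g' : A} (hg : g ∈ I ^ c) (hg' : g' ∈ I ^ c) : ψ φ j g * g' = g * ψ φ j g' := by
  rw [ψ_eq φ j hg, ψ_eq φ j hg', mul_comm, ← smul_eq_mul, ← smul_eq_mul, ← map_smul, ← map_smul]
  exact congrArg (φ j) (Subtype.ext (mul_comm g' g))

lemma ψ_mem (j : Fin r) {D : ℕ} {g : A} (hg : g ∈ I ^ (D + c)) : ψ φ j g ∈ I ^ D := by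
  rw [pow_add] at hg
  have hle : I ^ D * I ^ c ≤ I ^ c := Ideal.mul_le_right
  induction hg using Submodule.mul_induction_on' with
  | mem_mul_mem a ha b hb =>
    rw [ψ_eq φ j (hle (Ideal.mul_mem_mul ha hb))]
    have : φ j ⟨a * b, hle (Ideal.mul_mem_mul ha hb)⟩ = a * φ j ⟨b, hb⟩ := map_smul (φ j) a ⟨b, hb⟩
    rw [this]
    exact Ideal.mul_mem_right _ _ ha
  | add x hx y hy ihx ihy =>
    rw [ψ_eq φ j (add_mem (hle hx) (hle hy))]
    rw [ψ_eq φ j (hle hx)] at ihx
    rw [ψ_eq φ j (hle hy)] at ihy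
    exact (map_add (φ j) ⟨x, hle hx⟩ ⟨y, hle hy⟩).symm ▸ add_mem ihx ihy

variable (G) in
/-- The deep part. -/
abbrev deep (B N : ℕ) : X.Modules := kernel (ARSys.tr G (Nat.le_add_right B N))

variable (G) in
/-- Its transition maps. -/
def deepMap (B N : ℕ) : deep G B (N + 1) ⟶ deep G B N :=
  kernel.lift _ (kernel.ι _ ≫ ARSys.tr G (show B + N ≤ B + (N + 1) by omega)) (by
    rw [Category.assoc, tr_comp]
    exact kernel.condition _)

lemma deepMap_ι (B N : ℕ) : deepMap G B N ≫ kernel.ι (ARSys.tr G (Nat.le_add_right B N)) =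
    kernel.ι (ARSys.tr G (Nat.le_add_right B (N + 1))) ≫ ARSys.tr G (show B + N ≤ B + (N + 1) by omega) :=
  kernel.lift_ι _ _ _

lemma smul_tr_zero {B n : ℕ} (hG : Formal.IsCohFormal I G) (h : B ≤ n) {g : A} (hg : g ∈ I ^ (B + 1)) :
    Formal.smulMod A (G.obj (op n)) g ≫ ARSys.tr G h = 0 := by
  rw [smul_comm_tr, hG.2.1 B g hg, comp_zero]

variable (G) in
/-- Multiples by finitely many elements. -/
abbrev gensMap {l : ℕ} (gl : Fin l → A) (n : ℕ) : (⨁ fun _ : ULift.{u} (Fin l) => G.obj (op n)) ⟶ G.obj (op n) :=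
  biproduct.desc fun i => Formal.smulMod A (G.obj (op n)) (gl i.down)

include hG in
lemma gensMap_tr {B l : ℕ} {gl : Fin l → A} (hgl : Ideal.span (Set.range gl) = I ^ (B + 1)) (N : ℕ) :
    gensMap G gl (B + N) ≫ ARSys.tr G (Nat.le_add_right B N) = 0 :=
  biproduct.hom_ext' _ _ fun i => by
    rw [biproduct.ι_desc_assoc, comp_zero]
    exact smul_tr_zero hG _ (hgl ▸ Ideal.subset_span ⟨i.down, rfl⟩)

include hG in
/-- The deep part is generated by the multiples. -/
theorem epi_deep {B l : ℕ} {gl : Fin l → A} (hgl : Ideal.span (Set.range gl) = I ^ (B + 1)) (N : ℕ) :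
    Epi (kernel.lift (ARSys.tr G (Nat.le_add_right B N)) (gensMap G gl (B + N)) (gensMap_tr hG hgl N)) := by
  let S := ShortComplex.mk (gensMap G gl (B + N)) (ARSys.tr G (Nat.le_add_right B N)) (gensMap_tr hG hgl N)
  have hS : S.Exact := by
    rw [ShortComplex.exact_iff_kernel_ι_comp_cokernel_π_zero]
    let q := cokernel.π (gensMap G gl (B + N))
    have hkill : I ^ (B + 1) ≤ FFun.killIdeal (cokernel (gensMap G gl (B + N))) := by
      rw [← hgl, Ideal.span_le]
      rintro _ ⟨i, rfl⟩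
      show Formal.smulMod A _ (gl i) = 0
      rw [← cancel_epi q, ← FFun.smulMod_naturality q, comp_zero]
      have h := congrArg (biproduct.ι (fun _ : ULift.{u} (Fin l) => G.obj (op (B + N))) ⟨i⟩ ≫ ·)
        (cokernel.condition (gensMap G gl (B + N)))
      simp only [biproduct.ι_desc_assoc, comp_zero] at h
      exact h
    obtain ⟨p, hp⟩ := Algz7.factor hG (Nat.le_add_right B N) (fun a ha => hkill ha) q
    show kernel.ι (ARSys.tr G (Nat.le_add_right B N)) ≫ q = 0
    rw [← hp, kernel.condition_assoc, zero_comp]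
  exact hS.epi_kernelLift

include hG hf in
/-- Division maps on the deep parts. -/
theorem exists_theta [IsNoetherianRing A] (hfid : ∀ x : ↥(I ^ c), (x : A) = ∑ j, f j * φ j x) {k : ℕ}
    (hk : ∀ n, k ≤ n → ∀ {W : X.Modules} (u : W ⟶ (formalTower hG).J n),
      (∀ i, u ≫ ((formalTower hG).sys f hf).t n i = 0) → u = 0)
    {D B : ℕ} (hkD : k ≤ D) (hB : B = D + c) :
    ∃ θ : ∀ (_ : Fin r) (N : ℕ), deep G B N ⟶ G.obj (op (D + N)),
      (∀ N, ∑ j, θ j N ≫ Formal.smulMod A (G.obj (op (D + N))) (f j) =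
        kernel.ι (ARSys.tr G (Nat.le_add_right B N)) ≫ ARSys.tr G (show D + N ≤ B + N by omega)) ∧
      (∀ j N, θ j (N + 1) ≫ ARSys.tr G (show D + N ≤ D + (N + 1) by omega) = deepMap G B N ≫ θ j N) ∧
      ∀ j N, θ j N ≫ ARSys.tr G (Nat.le_add_right D N) = 0 := by
  obtain ⟨l, gl, hgl⟩ := Submodule.fg_iff_exists_fin_generating_family.1 (IsNoetherian.noetherian (I ^ (B + 1)))
  have hgl' : Ideal.span (Set.range gl) = I ^ (B + 1) := hgl
  have hglm : ∀ i, gl i ∈ I ^ (B + 1) := fun i => hgl' ▸ Ideal.subset_span ⟨i, rfl⟩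
  have hglc : ∀ i, gl i ∈ I ^ c := fun i => Ideal.pow_le_pow_right (show c ≤ B + 1 by omega) (hglm i)
  have hψ : ∀ j i, ψ φ j (gl i) ∈ I ^ (D + 1) := fun j i => ψ_mem φ j (by
    rw [show D + 1 + c = B + 1 by omega]; exact hglm i)
  let E := fun N => (⨁ fun _ : ULift.{u} (Fin l) => G.obj (op (B + N)))
  let p : ∀ N, E N ⟶ deep G B N := fun N =>
    kernel.lift (ARSys.tr G (Nat.le_add_right B N)) (gensMap G gl (B + N)) (gensMap_tr hG hgl' N)
  have hp : ∀ N, p N ≫ kernel.ι (ARSys.tr G (Nat.le_add_right B N)) = gensMap G gl (B + N) := fun N =>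
    kernel.lift_ι _ _ _
  haveI hpe : ∀ N, Epi (p N) := fun N => epi_deep hG hgl' N
  let Δ : ∀ (_ : Fin r) (N : ℕ), E N ⟶ G.obj (op (B + N)) := fun j N =>
    biproduct.desc fun i => Formal.smulMod A (G.obj (op (B + N))) (ψ φ j (gl i.down))
  let Δ' : ∀ (_ : Fin r) (N : ℕ), E N ⟶ G.obj (op (D + N)) := fun j N =>
    Δ j N ≫ ARSys.tr G (show D + N ≤ B + N by omega)
  have hcomm : ∀ j N (g : A), g ∈ I ^ c →
      Δ j N ≫ Formal.smulMod A (G.obj (op (B + N))) g = gensMap G gl (B + N) ≫ Formal.smulMod A _ (ψ φ j g) :=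
    fun j N g hg => biproduct.hom_ext' _ _ fun i => by
      rw [biproduct.ι_desc_assoc, biproduct.ι_desc_assoc, ← FFun.smulMod_mul, ← FFun.smulMod_mul]
      refine congrArg _ ?_
      rw [mul_comm g, ψ_mul φ j (hglc i.down) hg, mul_comm]
  have hker : ∀ j N, kernel.ι (p N) ≫ Δ' j N = 0 := fun j N => by
    have h1 : kernel.ι (p N) ≫ gensMap G gl (B + N) = 0 := by rw [← hp, kernel.condition_assoc, zero_comp]
    have h2 : ∀ g ∈ I ^ c, (kernel.ι (p N) ≫ Δ j N) ≫ Formal.smulMod A (G.obj (op (B + N))) g = 0 := fun g hg => by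
      rw [Category.assoc, hcomm j N g hg, ← Category.assoc, h1, zero_comp]
    have h3 : (kernel.ι (p N) ≫ Δ j N) ≫ ARSys.tr G (show k ≤ B + N by omega) = 0 := by
      rw [Category.assoc]
      refine (congrArg (kernel.ι (p N) ≫ ·) (biproduct.hom_ext' _ _ fun i => ?_)).trans comp_zero
      rw [biproduct.ι_desc_assoc, comp_zero]
      exact smul_tr_zero hG _ (Ideal.pow_le_pow_right (show k + 1 ≤ D + 1 by omega) (hψ j i.down))
    rw [← Category.assoc]
    exact tr_eq_zero_of_killed hG hf hk c (B + N) _ _ h2 (by omega) h3 (D + N) (by omega) (by omega)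
  choose θ hθ using fun j N => (⟨(ShortComplex.exact_of_f_is_kernel
    (ShortComplex.mk (kernel.ι (p N)) (p N) (kernel.condition _)) (kernelIsKernel _)).desc (Δ' j N) (hker j N),
    (ShortComplex.exact_of_f_is_kernel
    (ShortComplex.mk (kernel.ι (p N)) (p N) (kernel.condition _)) (kernelIsKernel _)).g_desc (Δ' j N) (hker j N)⟩ :
      ∃ q : deep G B N ⟶ G.obj (op (D + N)), p N ≫ q = Δ' j N)
  refine ⟨θ, fun N => ?_, fun j N => ?_, fun j N => ?_⟩
  · rw [← cancel_epi (p N), Preadditive.comp_sum, ← Category.assoc (p N), hp]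
    simp only [← Category.assoc, hθ]
    refine biproduct.hom_ext' _ _ fun i => ?_
    rw [Preadditive.comp_sum, biproduct.ι_desc_assoc]
    simp only [Δ', Δ, Category.assoc, biproduct.ι_desc_assoc]
    have hsum : ∀ (M : X.Modules) (s : Finset (Fin r)) (a : Fin r → A),
        ∑ j ∈ s, Formal.smulMod A M (a j) = Formal.smulMod A M (∑ j ∈ s, a j) := fun M s a => by
      classical
      induction s using Finset.induction with
      | empty => simp [FFun.smulMod_zero]
      | insert b s hb ih => rw [Finset.sum_insert hb, Finset.sum_insert hb, FFun.smulMod_add, ih]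
    have e : ∀ j, Formal.smulMod A (G.obj (op (B + N))) (ψ φ j (gl i.down)) ≫
        ARSys.tr G (show D + N ≤ B + N by omega) ≫ Formal.smulMod A (G.obj (op (D + N))) (f j) =
        ARSys.tr G (show D + N ≤ B + N by omega) ≫ Formal.smulMod A (G.obj (op (D + N))) (f j * ψ φ j (gl i.down)) := fun j => by
      rw [← Category.assoc, smul_comm_tr, Category.assoc, ← FFun.smulMod_mul]
    simp only [e]
    rw [← Preadditive.comp_sum, hsum, ← smul_comm_tr]
    refine congrArg (fun z => Formal.smulMod A (G.obj (op (B + N))) z ≫ _) ?_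
    have h := hfid ⟨_, hglc i.down⟩
    exact (Finset.sum_congr rfl fun j _ => by rw [ψ_eq φ j (hglc i.down)]).trans h.symm
  · rw [← cancel_epi (p (N + 1)), ← Category.assoc, hθ]
    let T : E (N + 1) ⟶ E N := biproduct.map fun _ => ARSys.tr G (show B + N ≤ B + (N + 1) by omega)
    have hT : p (N + 1) ≫ deepMap G B N = T ≫ p N := by
      rw [← cancel_mono (kernel.ι (ARSys.tr G (Nat.le_add_right B N))), Category.assoc, deepMap_ι, Category.assoc, hp,
        ← Category.assoc, hp]
      refine biproduct.hom_ext' _ _ fun i => ?_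
      simp only [T, biproduct.ι_desc_assoc, biproduct.ι_map_assoc, biproduct.ι_desc]
      exact smul_comm_tr _ _
    rw [← Category.assoc, hT, Category.assoc T (p N) (θ j N), hθ]
    refine biproduct.hom_ext' _ _ fun i => ?_
    simp only [Δ', Δ, T, Category.assoc, biproduct.ι_desc_assoc, biproduct.ι_map_assoc]
    rw [← Category.assoc (ARSys.tr G _), ← smul_comm_tr, Category.assoc, tr_comp, tr_comp]
  · rw [← cancel_epi (p N), ← Category.assoc, hθ, comp_zero]
    refine biproduct.hom_ext' _ _ fun i => ?_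
    simp only [Δ', Δ, Category.assoc, biproduct.ι_desc_assoc, comp_zero, tr_comp]
    exact smul_tr_zero hG _ (hψ j i.down)

end Div

end Groth.Agent.CdOneLim
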